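import Cfsg.Agent.H609.TH.Expl
import Cfsg.Agent.OrdDiv.Table
import Cfsg.Agent.H537.CopSuzEl
import Cfsg.Agent.H998.SpHN
import Cfsg.Agent.KFacts.HN.Sheet
import Cfsg.Agent.H287.InnON_m3
import Cfsg.Agent.HN.Red
import Cfsg.Agent.HN.A12Group
import Cfsg.Agent.HN.XWords
import Cfsg.Agent.Lib.PackFast
import Cfsg.Agent.S2082
import Cfsg.Agent.FastGrp
import Cfsg.Agent.Prune
set_option linter.all false

section
prune_inst 0x7f00000000000000000000000000000000000000000000000000000000000000000000000000000000000000000000000000000000000000000000000000000000000000000000000000000000000000003fffffffffffffffffffffffffffbeffbdffffffff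

-- part: H315/Spr/HNBad
section
set_option linter.all false
open scoped Cfsg.Agent.FastGrp

/-!
# S3938, row `HN` (helper315, task 5132): the proper subgroups with elements of order `19`

`r = 19`: the simple groups at the top are `L2(19)`, `U3(8)` (`J1` is excluded: `6 ∤ 9`), so no proper subgroup has an order
divisible by `19 · 11`.
-/

set_option autoImplicit false

namespace Cfsg.Agent.H315.SpHN

open Subgroup Cfsg Cfsg.Agent.OrdDiv Cfsg.Agent.H257.El Cfsg.Agent.H609.TH Cfsg.Agent.H424.Spr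

/-- the factorization -/
def lH : List (ℕ × ℕ) := [(2, 14), (3, 6), (5, 6), (7, 1), (11, 1), (19, 1)]

theorem surv_eq : surv 273030912000000 lH 19 [] = [Grp.psl 2 19, Grp.psu 3 8, Grp.j1] := by decide +kernel

theorem chk : chkN 273030912000000 lH 19 = true := by decide +kernel

theorem ok : okAll lH 19 = true := by decide +kernel

theorem ord_psl : ordN (Grp.psl 2 19) = 3420 := by decide +kernel

theorem ord_psu : ordN (Grp.psu 3 8) = 5515776 := by decide +kernel

theorem ord_j1 : ordN Grp.j1 = 175560 := by decide +kernel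

theorem card_HN : Nat.card Cfsg.Spor.HN = 273030912000000 := Cfsg.Agent.KFacts.HN.Classes.card_HN

theorem sc19 : Cfsg.Agent.H537.Cop.SC 19 Cfsg.Spor.HN := fun _ hy => Cfsg.Agent.H998.SpHN.hn_cent19 hy

/-- **No proper subgroup has an order divisible by `19 · 11`.** -/
theorem top_of (known : Cfsg.Agent.H257.El.Known.{0}) {K : Subgroup Cfsg.Spor.HN} (h19 : 19 ∣ Nat.card K)
    (h11 : 11 ∣ Nat.card K) : K = ⊤ := by
  have hfin : Finite Cfsg.Spor.HN := Cfsg.Agent.H845.HNNineteen.finite_HN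
  by_contra hK
  obtain ⟨hv, -, hrn, h2, hne⟩ := of_chkN chk
  have hr : Nat.Prime 19 := by norm_num
  have hfree : Free 19 Cfsg.Spor.HN := free_of_sc card_HN hv hr sc19 ok
  have hF : Fact (Nat.Prime 19) := ⟨hr⟩
  obtain ⟨s, hs⟩ := exists_prime_orderOf_dvd_card' (G := K) 19 h19
  have hsT : orderOf (s : Cfsg.Spor.HN) = 19 := by rw [Subgroup.orderOf_coe, hs]
  have h2' : ¬ 19 ^ 2 ∣ Nat.card Cfsg.Spor.HN := by rw [card_HN]; exact h2
  have hne' : Nat.card Cfsg.Spor.HN ≠ 19 := by rw [card_HN]; exact hne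
  rcases cases table known card_HN hv hr h2 hfree hsT hK s.2 with h1 | ⟨N, hN⟩
  · have h3 := (h11.trans (card_dvd_of_le h1))
    rw [(card_norm_mod hr h2' hne' (sc19 _ hsT)).1, card_HN] at h3
    exact absurd h3 (by norm_num)
  · obtain ⟨hd, he⟩ := hN.index_mul_dvd hr h2' hne' sc19 hsT
    have h3 := h11.trans hd
    obtain ⟨g, hg, -, hgc⟩ := hN.real
    rw [surv_eq] at hg
    simp only [List.mem_cons, List.not_mem_nil, or_false] at hg
    rw [card_HN] at h3 he
    rcases hg with rfl | rfl | rfl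
    · rw [hgc, ord_psl] at h3
      exact absurd h3 (by norm_num)
    · rw [hgc, ord_psu] at h3
      exact absurd h3 (by norm_num)
    · rw [hgc, ord_j1] at he
      have h4 := dvd_of_mul_left_dvd he
      exact absurd h4 (by norm_num)

theorem f19 : Fact (Nat.Prime 19) := ⟨by norm_num⟩

theorem f11 : Fact (Nat.Prime 11) := ⟨by norm_num⟩

/-- the criterion, roles exchanged -/
theorem goodI_of' (known : Cfsg.Agent.H257.El.Known.{0}) {x g : Cfsg.Spor.HN} (hx : x ^ 11 = 1) (hx1 : x ≠ 1)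
    (hxg : (x * g) ^ 19 = 1) (hxg1 : x * g ≠ 1) : GoodI g := by
  have := f19
  have := f11
  refine ⟨x, top_of known ?_ ?_⟩
  · have h1 : orderOf (x * g) = 19 := orderOf_eq_prime hxg hxg1
    rw [← h1]
    exact Subgroup.orderOf_dvd_natCard _ (mul_mem (subset_closure (Set.mem_insert _ _))
      (subset_closure (Set.mem_insert_of_mem _ rfl)))
  · have h1 : orderOf x = 11 := orderOf_eq_prime hx hx1
    rw [← h1]
    exact Subgroup.orderOf_dvd_natCard _ (subset_closure (Set.mem_insert _ _))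

/-- elements of order `19` -/
theorem goodI_19 (known : Cfsg.Agent.H257.El.Known.{0}) {g : Cfsg.Spor.HN} (hg : orderOf g = 19) : GoodI g := by
  have hfin : Finite Cfsg.Spor.HN := Cfsg.Agent.H845.HNNineteen.finite_HN
  have hF : Fact (Nat.Prime 11) := ⟨by norm_num⟩
  obtain ⟨x, hx⟩ := exists_prime_orderOf_dvd_card' (G := Cfsg.Spor.HN) 11 (by rw [card_HN]; norm_num)
  refine ⟨x, top_of known ?_ ?_⟩
  · rw [← hg]
    exact Subgroup.orderOf_dvd_natCard _ (subset_closure (Set.mem_insert_of_mem _ rfl))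
  · rw [← hx]
    exact Subgroup.orderOf_dvd_natCard _ (subset_closure (Set.mem_insert _ _))

/-- elements of order `11` -/
theorem goodI_11 (known : Cfsg.Agent.H257.El.Known.{0}) {g : Cfsg.Spor.HN} (hg : orderOf g = 11) : GoodI g := by
  have hfin : Finite Cfsg.Spor.HN := Cfsg.Agent.H845.HNNineteen.finite_HN
  have hF : Fact (Nat.Prime 19) := ⟨by norm_num⟩
  obtain ⟨x, hx⟩ := exists_prime_orderOf_dvd_card' (G := Cfsg.Spor.HN) 19 (by rw [card_HN]; norm_num)
  refine ⟨x, top_of known ?_ ?_⟩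
  · rw [← hx]
    exact Subgroup.orderOf_dvd_natCard _ (subset_closure (Set.mem_insert _ _))
  · rw [← hg]
    exact Subgroup.orderOf_dvd_natCard _ (subset_closure (Set.mem_insert_of_mem _ rfl))

end Cfsg.Agent.H315.SpHN
end

-- part: H546/SH/FixTwo
section
set_option linter.all false
open scoped Cfsg.Agent.FastGrp

/-!
# S3938, row `HN`: an outer involutory automorphism of `HN` fixes an involution with centralizer `2.HS.2` (helper546)

Let `a` fix `W0`. It acts on the masks as `PHI` followed by the matrix of an element of `C(W0)`; a kernel check over the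
7200 matrices finds masks `v, v', v ^^^ v'` in `DD` fixed by `a`: one of them has a preimage fixed by `a`.
-/

set_option autoImplicit false

namespace Cfsg.Agent.H546.SH

open Subgroup Cfsg
open Cfsg.Agent.HN Cfsg.Agent.HN.Pres Cfsg.Agent.HN.P1408 Cfsg.Agent.HN.H0Basic Cfsg.Agent.HN.XMat
open Cfsg.Agent.HN.XStruct Cfsg.Agent.HN.XWords Cfsg.Agent.HN.XQuot Cfsg.Agent.HN.XInst Cfsg.Agent.KFacts.HN

/-- three masks of `DD` with sum zero fixed by `M` -/
def trip (M : ℕ) : Bool :=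
  DD.any fun v => bif Nat.beq (app M v) v then DD.any (fun v' => bif Nat.beq (app M v') v' then
    DD.any (fun u => Nat.beq u (Nat.xor v v')) else false) else false

/-- the matrix `PHI M`, if it is an involution -/
def cl3 (M : ℕ) : Bool :=
  force (mul PHI M) fun N => force (mul N N) fun Q => bif Nat.beq Q MI then trip N else true

/-- `app`, unrolled -/
def fApp (P m : ℕ) : ℕ :=
  Nat.xor (Nat.xor (Nat.xor (Nat.xor (Nat.xor (Nat.xor (Nat.xor (Nat.mul (Nat.land m 1) (row P 0)) (Nat.mul (Nat.land (Nat.shiftRight m 1) 1) (row P 1))) (Nat.mul (Nat.land (Nat.shiftRight m 2) 1) (row P 2))) (Nat.mul (Nat.land (Nat.shiftRight m 3) 1) (row P 3))) (Nat.mul (Nat.land (Nat.shiftRight m 4) 1) (row P 4))) (Nat.mul (Nat.land (Nat.shiftRight m 5) 1) (row P 5))) (Nat.mul (Nat.land (Nat.shiftRight m 6) 1) (row P 6))) (Nat.mul (Nat.land (Nat.shiftRight m 7) 1) (row P 7))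

theorem fApp_eq (P m : ℕ) : app P m = fApp P m := by
  show _ = fApp P m
  delta fApp
  rw [← Nat.zero_xor (Nat.mul (Nat.land m 1) (row P 0))]
  rfl

/-- `v` is moved by the square of `P B`, or `b` -/
noncomputable def fT (P B v : ℕ) (b : Bool) : Bool := Bool.rec true b (Nat.beq (fApp B (fApp P (fApp B (fApp P v)))) v)

theorem fT_spec {A B v : ℕ} {b : Bool} (hv : v < 256) (h : fT (mul PHI A) B v b = true)
    (hb : b = true → force (mul A B) cl3 = true) : force (mul A B) cl3 = true := by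
  cases b
  · rw [force_eq]
    delta cl3
    rw [force_eq, force_eq]
    cases h1 : Nat.beq (mul (mul PHI (mul A B)) (mul PHI (mul A B))) MI
    · rfl
    · have h2 := congrArg (fun X => app X v) (Nat.eq_of_beq_eq_true h1)
      simp only [app_mul, app_MI hv] at h2
      delta fT at h
      rw [← fApp_eq, ← fApp_eq, ← fApp_eq, ← fApp_eq, app_mul, app_mul, h2, Nat.beq_refl] at h
      exact absurd h Bool.false_ne_true
  · exact hb rfl

theorem chk3 : S5M.all (fun A => DM.all (fun B => force (mul A B) cl3)) = true := by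
  have h : S5M.all (fun A => force (mul PHI A) fun P => DM.all fun B => fT P B 1 (fT P B 4 (force (mul A B) cl3))) = true := by
    decide +kernel
  refine List.all_eq_true.2 fun A hA => List.all_eq_true.2 fun B hB => ?_
  have h1 := List.all_eq_true.1 h A hA
  rw [force_eq] at h1
  exact fT_spec (by decide) (List.all_eq_true.1 h1 B hB) fun h2 => fT_spec (by decide) h2 id

theorem chkDD' : DD.all (fun m => CD.testBit m) = true := by decide +kernel

theorem beq_true {a b : ℕ} (h : Nat.beq a b = true) : a = b := Nat.eq_of_beq_eq_true h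

theorem trip_spec {M : ℕ} (h : trip M = true) : ∃ v ∈ DD, ∃ v' ∈ DD, v ^^^ v' ∈ DD ∧ app M v = v ∧ app M v' = v' := by
  unfold trip at h
  rw [List.any_eq_true] at h
  obtain ⟨v, hv, h⟩ := h
  cases h1 : Nat.beq (app M v) v
  · rw [h1, cond_false] at h
    exact (Bool.false_ne_true h).elim
  · rw [h1, cond_true, List.any_eq_true] at h
    obtain ⟨v', hv', h⟩ := h
    cases h2 : Nat.beq (app M v') v'
    · rw [h2, cond_false] at h
      exact (Bool.false_ne_true h).elim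
    · rw [h2, cond_true, List.any_eq_true] at h
      obtain ⟨u, hu, h⟩ := h
      have h3 : u = v ^^^ v' := beq_true h
      exact ⟨v, hv, v', hv', by rw [← h3]; exact hu, beq_true h1, beq_true h2⟩

theorem cl3_spec {w w' : List ℕ} (hw : w ∈ S5W) (hw' : w' ∈ DW) {N : ℕ} (hN : N = mul PHI (mul (mw w) (mw w')))
    (hi : mul N N = MI) : ∃ v ∈ DD, ∃ v' ∈ DD, v ^^^ v' ∈ DD ∧ app N v = v ∧ app N v' = v' := by
  have h1 := List.all_eq_true.1 (List.all_eq_true.1 chk3 _ (mem_S5M hw)) _ (mem_DM hw')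
  rw [force_eq] at h1
  unfold cl3 at h1
  rw [force_eq, force_eq, ← hN, hi] at h1
  have h2 : Nat.beq MI MI = true := by decide
  rw [h2] at h1
  exact trip_spec h1

theorem DD_color {m : ℕ} (h : m ∈ DD) : CD.testBit m = true := List.all_eq_true.1 chkDD' _ h

/-- **The case `a W0 = W0`.** -/
theorem fix_of_W0 {a : MulAut Cfsg.Spor.HN} (haa : a * a = 1) (hW : a W0 = W0) (hout : ∀ g, a ≠ MulAut.conj g) :
    ∃ u : Cfsg.Spor.HN, IsConj (Q 0) u ∧ a u = u := by
  have hfin := finite_HN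
  obtain ⟨u, hu, h | h⟩ := aut_form hW
  · exfalso
    have hW' : (MulAut.conj u * a) W0 = W0 := by
      rw [MulAut.mul_apply, hW]
      exact conj_fix hu
    obtain ⟨y, -, hy⟩ := aut0 hW' (triv_of_masks hW' h)
    apply hout (u⁻¹ * y)
    rw [map_mul, ← hy, map_inv, inv_mul_cancel_left]
  · obtain ⟨w, hw, w', hw', hact⟩ := exists_acts (π W0 u)
    set P := mul (mw w) (mw w') with hP
    set N := mul PHI P with hN
    have hsg : ∀ c, a (sgn0 c) = sgn0 c := by
      intro c; cases c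
      · exact map_one a
      · exact hW
    have hval : ∀ m < 256, ∃ b : Bool, a (r Q m) = r Q (app N m) * sgn0 b := by
      intro m hm
      obtain ⟨b, hb⟩ := h m hm
      obtain ⟨c, hc⟩ := r_conj hu hact (app PHI m)
      rw [MulAut.mul_apply, MulAut.conj_apply] at hb
      refine ⟨c ^^ b, ?_⟩
      have h1 : a (r Q m) = u⁻¹ * (r Q (app PHI m) * sgn0 b) * u := by rw [← hb]; group
      have h2 := sgn_comm b hu
      rw [h1, hN, app_mul, ← sgn0_mul, ← mul_assoc (r Q _), ← hc]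
      calc u⁻¹ * (r Q (app PHI m) * sgn0 b) * u = u⁻¹ * r Q (app PHI m) * (sgn0 b * u) := by group
        _ = u⁻¹ * r Q (app PHI m) * u * sgn0 b := by rw [← h2]; group
    have hinv : ∀ m < 256, app N (app N m) = m := by
      intro m hm
      obtain ⟨b, hb⟩ := hval m hm
      obtain ⟨b', hb'⟩ := hval _ (app_lt N m)
      have h1 : a (a (r Q m)) = r Q m := DFunLike.congr_fun haa (r Q m)
      rw [hb, map_mul, hsg, hb', mul_assoc, sgn0_mul] at h1
      refine mask_unique (app_lt _ _) hm (b := b' ^^ b) (b' := false) ?_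
      rw [h1, show sgn0 false = 1 from rfl, mul_one]
    have hMI : mul N N = MI := by
      refine pack_ext (mul_lt _ _) MI_lt fun i hi => ?_
      rw [row_mul _ _ hi, row_MI hi, ← app_pow N hi]
      exact hinv _ (Nat.pow_lt_pow_right (by norm_num) hi)
    obtain ⟨v, hv, v', hv', hvv, e1, e2⟩ := cl3_spec hw hw' hN hMI
    obtain ⟨b, hb⟩ := hval v (DD_lt hv)
    obtain ⟨b', hb'⟩ := hval v' (DD_lt hv')
    rw [e1] at hb
    rw [e2] at hb'
    cases b
    · refine ⟨r Q v, ?_, by rw [hb]; exact mul_one _⟩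
      have := kind_D (DD_lt hv) (DD_color hv) false
      rwa [show sgn0 false = 1 from rfl, mul_one] at this
    · cases b'
      · refine ⟨r Q v', ?_, by rw [hb']; exact mul_one _⟩
        have := kind_D (DD_lt hv') (DD_color hv') false
        rwa [show sgn0 false = 1 from rfl, mul_one] at this
      · obtain ⟨c, hc⟩ := r_mul (a := v) (b := v')
        refine ⟨r Q (v ^^^ v') * sgn0 c, kind_D (DD_lt hvv) (DD_color hvv) c, ?_⟩
        rw [← hc, map_mul, hb, hb']
        have h2 := sgn_comm true (r_mem_PP v')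
        calc r Q v * sgn0 true * (r Q v' * sgn0 true) = r Q v * (sgn0 true * r Q v') * sgn0 true := by group
          _ = r Q v * r Q v' * (sgn0 true * sgn0 true) := by rw [← h2]; group
          _ = r Q v * r Q v' := by rw [sgn0_mul]; exact mul_one _

/-- **An outer involutory automorphism fixes an involution conjugate to `ψ τ`.** -/
theorem fix_two {a : MulAut Cfsg.Spor.HN} (haa : a * a = 1) (hout : ∀ g, a ≠ MulAut.conj g) :
    ∃ u : Cfsg.Spor.HN, IsConj u (NormalH.ψ τ) ∧ a u = u := by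
  have hfin := finite_HN
  have he : Even (Nat.card ↥(centralizer ({(1 : Cfsg.Spor.HN)} : Set Cfsg.Spor.HN))) := by
    have h1 : centralizer ({(1 : Cfsg.Spor.HN)} : Set Cfsg.Spor.HN) = ⊤ := by
      rw [eq_top_iff]
      intro x _
      rw [mem_centralizer_singleton_iff, mul_one, one_mul]
    rw [h1, Subgroup.card_top, Cfsg.Agent.KFacts.HN.Classes.card_HN]
    decide
  obtain ⟨u, hu, hau, -⟩ := H291.Parity.exists_comm_invo a haa (map_one a) he
  rcases Cfsg.Agent.KFacts.HN.Classes.inv_class hu with h | h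
  · exact ⟨u, h, hau⟩
  · obtain ⟨g, hg⟩ := isConj_iff.1 h
    set b := MulAut.conj g * a * (MulAut.conj g)⁻¹ with hb
    have hb' : ∀ x, b x = g * a (g⁻¹ * x * g) * g⁻¹ := fun x => H287.OutHN.conj_apply' g x a
    have e1 : b * b = 1 := by
      rw [hb]
      calc MulAut.conj g * a * (MulAut.conj g)⁻¹ * (MulAut.conj g * a * (MulAut.conj g)⁻¹)
          = MulAut.conj g * (a * a) * (MulAut.conj g)⁻¹ := by group
        _ = 1 := by rw [haa]; group
    have e2 : b W0 = W0 := by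
      have h1 : g⁻¹ * W0 * g = u := by rw [← hg]; group
      rw [hb', h1, hau, hg]
    have e3 : ∀ x, b ≠ MulAut.conj x := by
      intro x hx
      apply hout (g⁻¹ * x * g)
      rw [map_mul, map_mul, ← hx, hb, map_inv]
      group
    obtain ⟨v, hv, hbv⟩ := fix_of_W0 e1 e2 e3
    refine ⟨g⁻¹ * v * g, ?_, ?_⟩
    · refine IsConj.trans ?_ (hv.symm.trans ?_)
      · rw [isConj_iff]
        exact ⟨g, by group⟩
      · rw [Cfsg.Agent.KFacts.HN.Q0_eq]
    · rw [hb'] at hbv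
      have h1 : a (g⁻¹ * v * g) = g⁻¹ * (g * a (g⁻¹ * v * g) * g⁻¹) * g := by group
      rw [h1, hbv]

end Cfsg.Agent.H546.SH
end

-- part: H546/SH/Words
section
set_option linter.all false
open scoped Cfsg.Agent.FastGrp

/-!
# S3938, row `HN`: six words of order 19 (helper546)

`x` of order 19 and `a(x) x²` of order 11, `a = conj (h) ∘ θ`, `h ∈ {x, z, d} × {1, τ}`; `θ : x ↦ x, y ↦ y, z ↦ z x²,
t ↦ t²` the outer automorphism.
-/

set_option autoImplicit false
set_option Elab.async false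

namespace Cfsg.Agent.H546.SH

open Cfsg.Agent.Lib.PackMat Cfsg.Agent.Lib.PackMatGroup Cfsg.Agent.Lib.PackMatMul
open Cfsg.Agent.HN.RepData Cfsg.Agent.HN.Rep Cfsg.Agent.HN.Red
open Cfsg.Agent.HN.XWords (V V_append)

/-- inverse letter -/
def il (c : ℕ) : ℕ := match c with
  | 0 => 1
  | 1 => 0
  | 2 => 3
  | 3 => 2
  | 4 => 4
  | 6 => 7
  | 7 => 6
  | n => n

/-- the inverse word -/
def iv (w : List ℕ) : List ℕ := (w.map il).reverse

theorem V_il {c : ℕ} (hc : c < 8) (h5 : c ≠ 5) : gens.getD (il c) 1 = (gens.getD c 1)⁻¹ := by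
  have h0 : c = 0 ∨ c = 1 ∨ c = 2 ∨ c = 3 ∨ c = 4 ∨ c = 6 ∨ c = 7 := by omega
  rcases h0 with rfl | rfl | rfl | rfl | rfl | rfl | rfl
  · rfl
  · exact (inv_inv _).symm
  · rfl
  · exact (inv_inv _).symm
  · exact (inv_eq_of_mul_eq_one_left Cfsg.Agent.HN.XWords.zz).symm
  · rfl
  · exact (inv_inv _).symm

theorem V_iv (w : List ℕ) (hw : ∀ c ∈ w, c < 8 ∧ c ≠ 5) : V (iv w) = (V w)⁻¹ := by
  induction w with
  | nil => exact inv_one.symm
  | cons c w ih =>
    have h1 : iv (c :: w) = iv w ++ [il c] := by simp [iv]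
    have h2 : V [il c] = gens.getD (il c) 1 := mul_one _
    rw [h1, V_append, ih fun d hd => hw d (List.mem_cons_of_mem _ hd), h2,
      V_il (hw c List.mem_cons_self).1 (hw c List.mem_cons_self).2, Cfsg.Agent.HN.XWords.V_cons, mul_inv_rev]

/-- the image of a letter under `θ` -/
def sb (c : ℕ) : List ℕ := match c with
  | 4 => [4, 0, 0]
  | 6 => [6, 6]
  | 7 => [7, 7]
  | n => [n]

section theta

variable {θ : Cfsg.Spor.HN →* Cfsg.Spor.HN} (hx : θ Cfsg.Agent.HN.Pres.hx = Cfsg.Agent.HN.Pres.hx)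
  (hy : θ Cfsg.Agent.HN.Pres.hy = Cfsg.Agent.HN.Pres.hy)
  (hz : θ Cfsg.Agent.HN.Pres.hz = Cfsg.Agent.HN.Pres.hz * Cfsg.Agent.HN.Pres.hx ^ 2)
  (ht : θ Cfsg.Agent.HN.Pres.ht = Cfsg.Agent.HN.Pres.ht ^ 2)

include hx hy hz ht

/-- after helper793 (`H793.G5.Theta.theta_letter`) -/
theorem theta_letter (c : ℕ) (hc : c < 8) (h5 : c ≠ 5) : θ (gens.getD c 1) = V (sb c) := by
  have h0 : c = 0 ∨ c = 1 ∨ c = 2 ∨ c = 3 ∨ c = 4 ∨ c = 6 ∨ c = 7 := by omega
  rcases h0 with rfl | rfl | rfl | rfl | rfl | rfl | rfl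
  · show θ Cfsg.Agent.HN.Pres.hx = Cfsg.Agent.HN.Pres.hx * 1
    rw [hx, mul_one]
  · show θ Cfsg.Agent.HN.Pres.hx⁻¹ = Cfsg.Agent.HN.Pres.hx⁻¹ * 1
    rw [map_inv, hx, mul_one]
  · show θ Cfsg.Agent.HN.Pres.hy = Cfsg.Agent.HN.Pres.hy * 1
    rw [hy, mul_one]
  · show θ Cfsg.Agent.HN.Pres.hy⁻¹ = Cfsg.Agent.HN.Pres.hy⁻¹ * 1
    rw [map_inv, hy, mul_one]
  · show θ Cfsg.Agent.HN.Pres.hz = Cfsg.Agent.HN.Pres.hz * (Cfsg.Agent.HN.Pres.hx * (Cfsg.Agent.HN.Pres.hx * 1))
    rw [hz, mul_one, pow_two]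
  · show θ Cfsg.Agent.HN.Pres.ht = Cfsg.Agent.HN.Pres.ht * (Cfsg.Agent.HN.Pres.ht * 1)
    rw [ht, mul_one, pow_two]
  · show θ Cfsg.Agent.HN.Pres.ht⁻¹ = Cfsg.Agent.HN.Pres.ht⁻¹ * (Cfsg.Agent.HN.Pres.ht⁻¹ * 1)
    rw [map_inv, ht, mul_one, pow_two, mul_inv_rev]

theorem theta_V (w : List ℕ) (hw : ∀ c ∈ w, c < 8 ∧ c ≠ 5) : θ (V w) = V (w.flatMap sb) := by
  induction w with
  | nil => exact map_one θ
  | cons c w ih =>
    rw [Cfsg.Agent.HN.XWords.V_cons, map_mul, List.flatMap_cons, V_append,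
      ih fun d hd => hw d (List.mem_cons_of_mem _ hd),
      theta_letter hx hy hz ht c (hw c List.mem_cons_self).1 (hw c List.mem_cons_self).2]

/-- the word of `a(x) x²` -/
theorem a_word (ρ w : List ℕ) (hρ : ∀ c ∈ ρ, c < 8 ∧ c ≠ 5) (hw : ∀ c ∈ w, c < 8 ∧ c ≠ 5) :
    V (ρ ++ (w.flatMap sb ++ (iv ρ ++ (w ++ w)))) = V ρ * θ (V w) * (V ρ)⁻¹ * V w * V w := by
  rw [V_append, V_append, V_append, V_append, V_iv ρ hρ, theta_V hx hy hz ht w hw]
  group

end theta

/-- orders of words in `HN` from the matrices -/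
theorem ord_of {i : ℕ} {w : List ℕ} {bits : List Bool} (h : ordC C L i w bits = true) :
    V (i :: w) ^ bval bits 1 = 1 ∧ V (i :: w) ≠ 1 := by
  have hs : IsSimpleGroup Cfsg.Spor.HN := Cfsg.Agent.S1701.result.1
  obtain ⟨h1, h2⟩ := ordC_spec hgood one_lt codesR h
  have hr : rho (V (i :: w)) = evG LG (i :: w) := rho_word _
  constructor
  · apply Cfsg.Agent.HN.A12Group.rho_injective
    rw [map_pow, hr, h1, map_one]
  · intro h3
    apply h2
    rw [← hr, h3, map_one]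

theorem c0 : ordC C L 3 [7, 1, 2, 4, 7, 3] [false, false, true, true] = true := by (rewrite [show @Cfsg.Agent.Lib.PackMatMul.ordC = delta% @Cfsg.Agent.Lib.PackMatMul.ordC from by delta Cfsg.Agent.Lib.PackMatMul.ordC; rfl, Cfsg.Agent.Lib.PackFast.withM_fast]; decide +kernel)
theorem d0 : ordC C L 0 [3, 7, 7, 1, 2, 4, 0, 0, 7, 7, 3, 1, 3, 7, 1, 2, 4, 7, 3, 3, 7, 1, 2, 4, 7, 3]
    [false, true, true] = true := by (rewrite [show @Cfsg.Agent.Lib.PackMatMul.ordC = delta% @Cfsg.Agent.Lib.PackMatMul.ordC from by delta Cfsg.Agent.Lib.PackMatMul.ordC; rfl, Cfsg.Agent.Lib.PackFast.withM_fast]; decide +kernel)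
theorem c1 : ordC C L 2 [4, 3, 1, 2, 6] [false, false, true, true] = true := by decide +kernel
theorem d1 : ordC C L 0 [0, 0, 2, 4, 0, 0, 3, 1, 2, 6, 6, 1, 1, 1, 2, 4, 3, 1, 2, 6, 2, 4, 3, 1, 2, 6]
    [false, true, true] = true := by (rewrite [show @Cfsg.Agent.Lib.PackMatMul.ordC = delta% @Cfsg.Agent.Lib.PackMatMul.ordC from by delta Cfsg.Agent.Lib.PackMatMul.ordC; rfl, Cfsg.Agent.Lib.PackFast.withM_fast]; decide +kernel)
theorem c2 : ordC C L 4 [3, 1, 2, 2, 7] [false, false, true, true] = true := by (rewrite [show @Cfsg.Agent.Lib.PackMatMul.ordC = delta% @Cfsg.Agent.Lib.PackMatMul.ordC from by delta Cfsg.Agent.Lib.PackMatMul.ordC; rfl, Cfsg.Agent.Lib.PackFast.withM_fast]; decide +kernel)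
theorem d2 : ordC C L 4 [4, 0, 0, 3, 1, 2, 2, 7, 7, 4, 4, 3, 1, 2, 2, 7, 4, 3, 1, 2, 2, 7]
    [false, true, true] = true := by decide +kernel
theorem c3 : ordC C L 3 [3, 1, 6, 2, 4] [false, false, true, true] = true := by (rewrite [show @Cfsg.Agent.Lib.PackMatMul.ordC = delta% @Cfsg.Agent.Lib.PackMatMul.ordC from by delta Cfsg.Agent.Lib.PackMatMul.ordC; rfl, Cfsg.Agent.Lib.PackFast.withM_fast]; decide +kernel)
theorem d3 : ordC C L 4 [0, 0, 3, 3, 1, 6, 6, 2, 4, 0, 0, 1, 1, 4, 3, 3, 1, 6, 2, 4, 3, 3, 1, 6, 2, 4]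
    [false, true, true] = true := by (rewrite [show @Cfsg.Agent.Lib.PackMatMul.ordC = delta% @Cfsg.Agent.Lib.PackMatMul.ordC from by delta Cfsg.Agent.Lib.PackMatMul.ordC; rfl, Cfsg.Agent.Lib.PackFast.withM_fast]; decide +kernel)
theorem c4 : ordC C L 6 [4, 6, 1, 3, 4, 3] [false, false, true, true] = true := by (rewrite [show @Cfsg.Agent.Lib.PackMatMul.ordC = delta% @Cfsg.Agent.Lib.PackMatMul.ordC from by delta Cfsg.Agent.Lib.PackMatMul.ordC; rfl, Cfsg.Agent.Lib.PackFast.withM_fast]; decide +kernel)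
theorem d4 : ordC C L 1 [3, 1, 2, 1, 4, 3, 4, 2, 4, 6, 6, 4, 0, 0, 6, 6, 1, 3, 4, 0, 0, 3, 4, 3, 4, 2, 4, 0, 3, 0, 2, 0,
    6, 4, 6, 1, 3, 4, 3, 6, 4, 6, 1, 3, 4, 3] [false, true, true] = true := by (rewrite [show @Cfsg.Agent.Lib.PackMatMul.ordC = delta% @Cfsg.Agent.Lib.PackMatMul.ordC from by delta Cfsg.Agent.Lib.PackMatMul.ordC; rfl, Cfsg.Agent.Lib.PackFast.withM_fast]; decide +kernel)
theorem c5 : ordC C L 0 [6, 4, 6, 3, 4, 3] [false, false, true, true] = true := by (rewrite [show @Cfsg.Agent.Lib.PackMatMul.ordC = delta% @Cfsg.Agent.Lib.PackMatMul.ordC from by delta Cfsg.Agent.Lib.PackMatMul.ordC; rfl, Cfsg.Agent.Lib.PackFast.withM_fast]; decide +kernel)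
theorem d5 : ordC C L 1 [3, 1, 2, 1, 4, 3, 4, 2, 4, 0, 0, 0, 6, 6, 4, 0, 0, 6, 6, 3, 4, 0, 0, 3, 1, 1, 4, 3, 4, 2, 4, 0, 3,
    0, 2, 0, 0, 6, 4, 6, 3, 4, 3, 0, 6, 4, 6, 3, 4, 3] [false, true, true] = true := by (rewrite [show @Cfsg.Agent.Lib.PackMatMul.ordC = delta% @Cfsg.Agent.Lib.PackMatMul.ordC from by delta Cfsg.Agent.Lib.PackMatMul.ordC; rfl, Cfsg.Agent.Lib.PackFast.withM_fast]; decide +kernel)

end Cfsg.Agent.H546.SH

private theorem dce_65c74e1ae64b : _root_.True := by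
  try have : _root_.True := by simp only [_root_.Cfsg.Agent.H546.SH.iv.eq_1]
  exact _root_.True.intro
end

-- part: H546/SH/Outer
section
set_option linter.all false
open scoped Cfsg.Agent.FastGrp

/-!
# S3938, row `HN`: the outer involutory automorphisms (helper546)

`hn_outer` : an outer involutory automorphism `a` of `HN` has an `x` such that no proper `a`-invariant subgroup contains `x`.
Up to conjugacy `a = conj (ψ h) α` with `h ∈ {gx, gz, d} × {1, τ}` and `x` is an explicit word of order 19 such that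
`a(x) x²` has order 11.
-/

set_option autoImplicit false

namespace Cfsg.Agent.H546.SH

open Subgroup Cfsg
open Cfsg.Agent.HN Cfsg.Agent.HN.Pres Cfsg.Agent.HN.P1408 Cfsg.Agent.HN.H0Basic
open Cfsg.Agent.HN.HS100 (K K_normal gx_mem)
open Cfsg.Agent.HN.XWords (V V_append V_hw)
open Cfsg.Agent.H997.OutHN (twist twist_gx twist_gy twist_gz twist_of_mem twist_of_not ψ_τ)
open Cfsg.Agent.Lib.PackMatGroup Cfsg.Agent.Lib.PackMatMul
open Cfsg.Agent.H609.TH (GoodA)

/-! ### the automorphism `α` -/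

open Cfsg.Agent.H997.OutHN (simple' exists_end) in
/-- the outer automorphism of `HN`, with its values (after helper68, `H68.DG.CosHN.exists_outer'`) -/
theorem exists_outer' : ∃ α : MulAut Cfsg.Spor.HN, (∀ g : Cfsg.Spor.HN, α ≠ MulAut.conj g) ∧ α Pres.hx = Pres.hx ∧
    α Pres.hy = Pres.hy ∧ α Pres.hz = Pres.hz * Pres.hx ^ 2 ∧ α Pres.ht = Pres.ht ^ 2 := by
  have hs := simple'
  have hfin := KFacts.HN.finite_HN
  obtain ⟨θ, hx, hy, hz, ht⟩ := exists_end
  have hx2 : Pres.hx ^ 2 ≠ 1 := by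
    rw [← ψ_τ]
    intro h
    exact KFacts.HN.emb.ne (KFacts.HN.emb.inj (h.trans (map_one _).symm))
  have hinj : Function.Injective θ := by
    rw [← MonoidHom.ker_eq_bot_iff]
    rcases IsSimpleGroup.eq_bot_or_eq_top_of_normal θ.ker inferInstance with h | h
    · exact h
    · exfalso
      have h1 : Pres.hx ∈ θ.ker := by rw [h]; exact Subgroup.mem_top _
      rw [MonoidHom.mem_ker, hx] at h1
      exact hx2 (by rw [h1, one_pow])
  refine ⟨MulEquiv.ofBijective θ (Finite.injective_iff_bijective.1 hinj), ?_, hx, hy, hz, ht⟩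
  intro g hg
  have happ : ∀ u : Cfsg.Spor.HN, θ u = g * u * g⁻¹ := fun u =>
    congrArg (fun β : MulAut Cfsg.Spor.HN => β u) hg
  have hcomp : θ.comp NormalH.ψ = NormalH.ψ.comp twist := by
    refine MonoidHom.eq_of_eqOn_dense closure_gens ?_
    rintro h (rfl | rfl | rfl)
    · rw [MonoidHom.comp_apply, MonoidHom.comp_apply, twist_gx, NormalH.ψ_gx, hx]
    · rw [MonoidHom.comp_apply, MonoidHom.comp_apply, twist_gy, NormalH.ψ_gy, hy]
    · rw [MonoidHom.comp_apply, MonoidHom.comp_apply, twist_gz, map_mul, NormalH.ψ_gz, ψ_τ, hz]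
  have hc : ∀ u : Cfsg.Spor.HN, θ u = u → g * u = u * g := by
    intro u hu
    rw [happ] at hu
    exact mul_inv_eq_iff_eq_mul.1 hu
  have hgτ : g * NormalH.ψ τ = NormalH.ψ τ * g := by
    apply hc
    rw [ψ_τ, map_pow, hx]
  obtain ⟨h, rfl⟩ := KFacts.HN.emb.cent g hgτ
  have hK : ∀ k ∈ K, h * k = k * h := by
    intro k hk
    apply KFacts.HN.emb.inj
    rw [map_mul, map_mul]
    apply hc
    have h1 := congrArg (fun f : H0 →* Cfsg.Spor.HN => f k) hcomp
    simp only [MonoidHom.comp_apply] at h1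
    rw [h1, twist_of_mem hk]
  have hz' : θ Pres.hz = Pres.hz := by
    rw [happ, mul_inv_eq_iff_eq_mul, ← NormalH.ψ_gz, ← map_mul, ← map_mul]
    rcases StepFive.eq_of_comm_K hK with rfl | rfl
    · rw [one_mul, mul_one]
    · rw [τ_comm]
  rw [hz] at hz'
  exact hx2 (mul_eq_left.1 hz')

open Cfsg.Agent.H997.OutHN (rel_zt) in
open Cfsg.Agent.KFacts.HN (emb) in
/-- (after helper748, `H748.SK.HNTwist`) -/
theorem ht_ne : Pres.ht ≠ 1 := by
  intro h
  have h1 := rel_zt
  -- `(z x² t²)³ = 1` with `t = 1` gives `(hz hx²)³ = 1`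
  rw [h, one_pow, mul_one, ← ψ_τ, ← NormalH.ψ_gz, ← map_mul, ← map_pow] at h1
  have h2 : (gz * τ) ^ 3 = 1 := emb.inj (h1.trans (map_one _).symm)
  have h3 : gz * gz = 1 := by rw [← pow_two]; exact rels_H0.r7
  have h4 : (gz * τ) ^ 2 = 1 := by
    rw [pow_two]
    calc gz * τ * (gz * τ) = gz * (τ * gz) * τ := by group
      _ = gz * (gz * τ) * τ := by rw [τ_comm gz]
      _ = gz * gz * (τ * τ) := by group
      _ = 1 := by rw [h3, τ_mul_τ, mul_one]
  have h5 : gz * τ = 1 := by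
    rw [pow_succ, h4, one_mul] at h2
    exact h2
  have h6 : gz ∈ K := by
    rw [mul_eq_one_iff_eq_inv.1 h5]
    exact inv_mem τ_mem_K
  exact HS100.gz_not_mem h6

/-- every outer automorphism is `conj c * α` (after helper748, `H748.SK.HNTwist`) -/
theorem exists_mul {α β : MulAut Cfsg.Spor.HN} (hα : ∀ g : Cfsg.Spor.HN, α ≠ MulAut.conj g)
    (hβ : ∀ g : Cfsg.Spor.HN, β ≠ MulAut.conj g) : ∃ c : Cfsg.Spor.HN, β = MulAut.conj c * α := by
  set I := (MulAut.conj : Cfsg.Spor.HN →* MulAut Cfsg.Spor.HN).range with hI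
  have h1 : α ∉ I := by
    rintro ⟨g, hg⟩
    exact hα g hg.symm
  have h2 : β ∉ I := by
    rintro ⟨g, hg⟩
    exact hβ g hg.symm
  have h3 : I.index = 2 := by
    rcases KFacts.HN.out_index with h | h
    · exfalso
      rw [Subgroup.index_eq_one] at h
      exact h1 (by rw [hI, h]; exact Subgroup.mem_top _)
    · exact h
  have h4 : β * α⁻¹ ∈ I := by
    rw [Subgroup.mul_mem_iff_of_index_two h3]
    exact iff_of_false h2 (fun h => h1 (by simpa using inv_mem h))
  obtain ⟨c, hc⟩ := h4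
  exact ⟨c, by rw [hc]; group⟩

section alpha

variable {α : MulAut Cfsg.Spor.HN} (hx : α Pres.hx = Pres.hx) (hy : α Pres.hy = Pres.hy)
  (hz : α Pres.hz = Pres.hz * Pres.hx ^ 2) (ht : α Pres.ht = Pres.ht ^ 2)

include hx hy hz in
theorem alpha_ψ (h : H0) : α (NormalH.ψ h) = NormalH.ψ (twist h) := by
  have hcomp : α.toMonoidHom.comp NormalH.ψ = NormalH.ψ.comp twist := by
    refine MonoidHom.eq_of_eqOn_dense closure_gens ?_
    rintro h (rfl | rfl | rfl)
    · rw [MonoidHom.comp_apply, MonoidHom.comp_apply, twist_gx, NormalH.ψ_gx]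
      exact hx
    · rw [MonoidHom.comp_apply, MonoidHom.comp_apply, twist_gy, NormalH.ψ_gy]
      exact hy
    · rw [MonoidHom.comp_apply, MonoidHom.comp_apply, twist_gz, map_mul, NormalH.ψ_gz, ψ_τ]
      exact hz
  exact congrArg (fun f : H0 →* Cfsg.Spor.HN => f h) hcomp

include ht in
theorem alpha_sq_ne : α * α ≠ 1 := by
  intro h
  have h1 : α (α Pres.ht) = Pres.ht := DFunLike.congr_fun h Pres.ht
  rw [ht, map_pow, ht, ← pow_mul] at h1
  have h5 := Cfsg.Agent.H997.OutHN.rel_t5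
  have h3 : Pres.ht ^ 3 = 1 := by
    have h2 : Pres.ht ^ 3 * Pres.ht = 1 * Pres.ht := by
      rw [← pow_succ, one_mul]
      exact h1
    exact mul_right_cancel h2
  have h4 : Pres.ht = 1 := by
    calc Pres.ht = Pres.ht ^ 5 * Pres.ht ^ 5 * (Pres.ht ^ 3 * Pres.ht ^ 3 * Pres.ht ^ 3)⁻¹ := by group
      _ = 1 := by rw [h5, h3]; group
  exact ht_ne h4

end alpha

theorem mul_conj {G : Type*} [Group G] (α : MulAut G) (y : G) : α * MulAut.conj y = MulAut.conj (α y) * α := by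
  ext u
  rw [MulAut.mul_apply, MulAut.mul_apply, MulAut.conj_apply, MulAut.conj_apply, map_mul, map_mul, map_inv]

/-- the words of the representatives -/
def reps : List (List ℕ) := [[0], [0, 0, 0], [4], [4, 0, 0], [1, 3, 1, 2, 1, 4, 3, 4, 2, 4],
  [1, 3, 1, 2, 1, 4, 3, 4, 2, 4, 0, 0]]

theorem mem_reps {r : H0} (hr : r = gx ∨ r = gz ∨ r = Syl.d) {s : H0} (hs : s = r ∨ s = r * τ) :
    ∃ ρ ∈ reps, NormalH.ψ s = V ρ := by
  have e0 : NormalH.ψ gx = V [0] := by rw [NormalH.ψ_gx]; exact (mul_one _).symm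
  have e1 : NormalH.ψ gz = V [4] := by rw [NormalH.ψ_gz]; exact (mul_one _).symm
  have e2 : NormalH.ψ Syl.d = V [1, 3, 1, 2, 1, 4, 3, 4, 2, 4] := V_hw (by decide +kernel)
  have e3 : NormalH.ψ τ = V [0, 0] := by
    rw [ψ_τ, pow_two]
    exact congrArg (Pres.hx * ·) (mul_one _).symm
  rcases hr with rfl | rfl | rfl <;> rcases hs with rfl | rfl
  · exact ⟨[0], by simp [reps], e0⟩
  · exact ⟨[0] ++ [0, 0], by simp [reps], by rw [map_mul, e0, e3, V_append]⟩
  · exact ⟨[4], by simp [reps], e1⟩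
  · exact ⟨[4] ++ [0, 0], by simp [reps], by rw [map_mul, e1, e3, V_append]⟩
  · exact ⟨[1, 3, 1, 2, 1, 4, 3, 4, 2, 4], by simp [reps], e2⟩
  · exact ⟨[1, 3, 1, 2, 1, 4, 3, 4, 2, 4] ++ [0, 0], by simp [reps], by rw [map_mul, e2, e3, V_append]⟩

/-- **Normal form of an outer involutory automorphism.** -/
theorem norm_form {α : MulAut Cfsg.Spor.HN} (hα : ∀ g : Cfsg.Spor.HN, α ≠ MulAut.conj g) (hx : α Pres.hx = Pres.hx)
    (hy : α Pres.hy = Pres.hy) (hz : α Pres.hz = Pres.hz * Pres.hx ^ 2) (ht : α Pres.ht = Pres.ht ^ 2)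
    {a : MulAut Cfsg.Spor.HN} (haa : a * a = 1) (hout : ∀ g : Cfsg.Spor.HN, a ≠ MulAut.conj g) :
    ∃ (b : MulAut Cfsg.Spor.HN) (ρ : List ℕ), ρ ∈ reps ∧ b * a * b⁻¹ = MulAut.conj (V ρ) * α := by
  have hfin := KFacts.HN.finite_HN
  have hKn : K.Normal := K_normal
  have hαψ := alpha_ψ hx hy hz
  obtain ⟨u, hu, hau⟩ := fix_two haa hout
  obtain ⟨g, hg⟩ := isConj_iff.1 hu
  set b := MulAut.conj g * a * (MulAut.conj g)⁻¹ with hb
  have hb' : ∀ x, b x = g * a (g⁻¹ * x * g) * g⁻¹ := fun x => H287.OutHN.conj_apply' g x a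
  have e1 : b * b = 1 := by
    rw [hb]
    calc MulAut.conj g * a * (MulAut.conj g)⁻¹ * (MulAut.conj g * a * (MulAut.conj g)⁻¹)
        = MulAut.conj g * (a * a) * (MulAut.conj g)⁻¹ := by group
      _ = 1 := by rw [haa]; group
  have e2 : b (NormalH.ψ τ) = NormalH.ψ τ := by
    have h1 : g⁻¹ * NormalH.ψ τ * g = u := by rw [← hg]; group
    rw [hb', h1, hau, hg]
  have e3 : ∀ x, b ≠ MulAut.conj x := by
    intro x hx
    apply hout (g⁻¹ * x * g)
    rw [map_mul, map_mul, ← hx, hb, map_inv]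
    group
  obtain ⟨D⟩ := H287.OutHN.exists_D
  obtain ⟨h, hh⟩ := H287.OutHN.exists_h D e2
  set γ := (MulAut.conj (NormalH.ψ h))⁻¹ * b with hγ
  have hγo : ∀ x, γ ≠ MulAut.conj x := by
    intro x hx
    apply e3 (NormalH.ψ h * x)
    rw [map_mul, ← hx, hγ, mul_inv_cancel_left]
  obtain ⟨c, hc⟩ := exists_mul hα hγo
  have hcK : ∀ k ∈ K, c * NormalH.ψ k = NormalH.ψ k * c := by
    intro k hk
    have h1 : γ (NormalH.ψ k) = NormalH.ψ k := by
      rw [hγ, MulAut.mul_apply, hh k hk, ← map_inv, MulAut.conj_apply, inv_inv, ← map_inv, ← map_mul, ← map_mul]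
      congr 1
      group
    rw [hc, MulAut.mul_apply, hαψ, twist_of_mem hk, MulAut.conj_apply] at h1
    exact mul_inv_eq_iff_eq_mul.1 h1
  obtain ⟨c', rfl⟩ := KFacts.HN.emb.cent c (hcK τ τ_mem_K)
  have hc' : ∀ k ∈ K, c' * k = k * c' := by
    intro k hk
    apply KFacts.HN.emb.inj
    rw [map_mul, map_mul]
    exact hcK k hk
  -- `b = conj (ψ h₁) α`
  obtain ⟨h₁, hbh⟩ : ∃ h₁ : H0, b = MulAut.conj (NormalH.ψ h₁) * α := by
    refine ⟨h * c', ?_⟩
    change γ = MulAut.conj (NormalH.ψ c') * α at hc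
    rw [map_mul, map_mul, mul_assoc, ← hc, hγ, mul_inv_cancel_left]
  have hact : ∀ k ∈ K, b (NormalH.ψ k) = NormalH.ψ (h₁ * k * h₁⁻¹) := by
    intro k hk
    rw [hbh, MulAut.mul_apply, hαψ, twist_of_mem hk, MulAut.conj_apply, map_mul, map_mul, map_inv]
  have hsq : h₁ ^ 2 = 1 ∨ h₁ ^ 2 = τ := by
    apply StepFive.eq_of_comm_K
    intro k hk
    have h1 : b (b (NormalH.ψ k)) = NormalH.ψ k := DFunLike.congr_fun e1 (NormalH.ψ k)
    rw [hact k hk, hact _ (hKn.conj_mem k hk h₁)] at h1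
    have h2 := KFacts.HN.emb.inj h1
    rw [pow_two]
    calc h₁ * h₁ * k = h₁ * (h₁ * k * h₁⁻¹) * h₁⁻¹ * (h₁ * h₁) := by group
      _ = k * (h₁ * h₁) := by rw [h2]
  -- the elements of `K` of square one
  have bad : h₁ ∈ K → h₁ ^ 2 ≠ 1 := by
    intro hK h2
    apply alpha_sq_ne ht
    have h3 : b * b = MulAut.conj (NormalH.ψ h₁) * (α * MulAut.conj (NormalH.ψ h₁)) * α := by
      rw [hbh]; group
    have h4 : α * MulAut.conj (NormalH.ψ h₁) = MulAut.conj (NormalH.ψ h₁) * α := by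
      rw [mul_conj α (NormalH.ψ h₁), hαψ, twist_of_mem hK]
    have h5 : MulAut.conj (NormalH.ψ h₁) * MulAut.conj (NormalH.ψ h₁) = 1 := by
      rw [← map_mul, ← map_mul, ← pow_two, h2, map_one, map_one]
    rw [h4] at h3
    calc α * α = (MulAut.conj (NormalH.ψ h₁) * MulAut.conj (NormalH.ψ h₁)) * (α * α) := by rw [h5, one_mul]
      _ = MulAut.conj (NormalH.ψ h₁) * (MulAut.conj (NormalH.ψ h₁) * α) * α := by group
      _ = b * b := h3.symm
      _ = 1 := e1
  -- the conclusion for `h₁` conjugate to `r`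
  have main : ∀ r : H0, (r = gx ∨ r = gz ∨ r = Syl.d) → IsConj r h₁ →
      ∃ (b : MulAut Cfsg.Spor.HN) (ρ : List ℕ), ρ ∈ reps ∧ b * a * b⁻¹ = MulAut.conj (V ρ) * α := by
    intro r hr hrh
    obtain ⟨d, hd⟩ := isConj_iff.1 hrh
    have hs : r * (d⁻¹ * twist d) = r ∨ r * (d⁻¹ * twist d) = r * τ := by
      by_cases hdK : d ∈ K
      · left; rw [twist_of_mem hdK, inv_mul_cancel, mul_one]
      · right; rw [twist_of_not hdK, inv_mul_cancel_left]
    obtain ⟨ρ, hρ, hV⟩ := mem_reps hr hs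
    refine ⟨MulAut.conj (NormalH.ψ d⁻¹) * MulAut.conj g, ρ, hρ, ?_⟩
    have h1 : MulAut.conj (NormalH.ψ d⁻¹) * MulAut.conj g * a * (MulAut.conj (NormalH.ψ d⁻¹) * MulAut.conj g)⁻¹ =
        MulAut.conj (NormalH.ψ d⁻¹) * b * MulAut.conj (NormalH.ψ d) := by
      rw [hb, map_inv, map_inv]; group
    rw [h1, hbh]
    calc MulAut.conj (NormalH.ψ d⁻¹) * (MulAut.conj (NormalH.ψ h₁) * α) * MulAut.conj (NormalH.ψ d)
        = MulAut.conj (NormalH.ψ d⁻¹) * MulAut.conj (NormalH.ψ h₁) * (α * MulAut.conj (NormalH.ψ d)) := by group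
      _ = MulAut.conj (NormalH.ψ d⁻¹) * MulAut.conj (NormalH.ψ h₁) * MulAut.conj (NormalH.ψ (twist d)) * α := by
          rw [mul_conj α (NormalH.ψ d), hαψ]; group
      _ = MulAut.conj (NormalH.ψ (r * (d⁻¹ * twist d))) * α := by
          rw [← map_mul, ← map_mul, ← map_mul, ← map_mul, ← hd]
          congr 3
          group
      _ = MulAut.conj (V ρ) * α := by rw [hV]
  rcases Syl.sq_cases hsq with h1 | h1 | h1 | h1 | h1 | h1 | h1
  · exact absurd (by rw [h1, one_pow]) (bad (by rw [h1]; exact K.one_mem))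
  · exact absurd (by rw [h1, pow_two, τ_mul_τ]) (bad (by rw [h1]; exact τ_mem_K))
  · exact absurd (by rw [Syl.sq_of_isConj h1 (Or.inl Syl.a_sq'), Syl.a_sq'])
      (bad ((Classes.mem_K_of_isConj h1).1 KFacts.HS.DFour.aa_mem_K))
  · exact absurd (by rw [Syl.sq_of_isConj h1 (Or.inl Syl.aτ_sq), Syl.aτ_sq])
      (bad ((Classes.mem_K_of_isConj h1).1 (K.mul_mem KFacts.HS.DFour.aa_mem_K τ_mem_K)))
  · exact main gx (Or.inl rfl) h1
  · exact main gz (Or.inr (Or.inl rfl)) h1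
  · exact main Syl.d (Or.inr (Or.inr rfl)) h1

/-- a representative with an explicit `x` -/
theorem good_rep (known : Cfsg.Agent.H257.El.Known.{0}) {α : MulAut Cfsg.Spor.HN} (hx : α Pres.hx = Pres.hx)
    (hy : α Pres.hy = Pres.hy) (hz : α Pres.hz = Pres.hz * Pres.hx ^ 2) (ht : α Pres.ht = Pres.ht ^ 2) {ρ w : List ℕ}
    (hρ : ∀ c ∈ ρ, c < 8 ∧ c ≠ 5) (hw : ∀ c ∈ w, c < 8 ∧ c ≠ 5) (h19 : V w ^ 19 = 1 ∧ V w ≠ 1)
    (h11 : V (ρ ++ (w.flatMap sb ++ (iv ρ ++ (w ++ w)))) ^ 11 = 1 ∧ V (ρ ++ (w.flatMap sb ++ (iv ρ ++ (w ++ w)))) ≠ 1) :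
    GoodA (MulAut.conj (V ρ) * α) := by
  have hfin := KFacts.HN.finite_HN
  refine ⟨V w, fun L hL ha => ?_⟩
  rw [a_word (θ := α.toMonoidHom) hx hy hz ht ρ w hρ hw] at h11
  have key : ∀ (p : ℕ) (y : Cfsg.Spor.HN), p.Prime → y ∈ L → y ^ p = 1 ∧ y ≠ 1 → p ∣ Nat.card L := by
    intro p y hp hy h
    have : Fact p.Prime := ⟨hp⟩
    have h1 : orderOf (⟨y, hy⟩ : L) = p := by
      rw [Subgroup.orderOf_mk]
      exact orderOf_eq_prime h.1 h.2
    rw [← h1]
    exact orderOf_dvd_natCard _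
  refine Cfsg.Agent.H315.SpHN.top_of known (key 19 _ (by norm_num) hL h19) (key 11 _ (by norm_num) ?_ h11)
  refine L.mul_mem (L.mul_mem ?_ hL) hL
  exact ha _ hL

/-- **The outer involutory automorphisms of `HN`.** -/
theorem hn_outer (known : Cfsg.Agent.H257.El.Known.{0}) (a : MulAut Cfsg.Spor.HN) (ha : orderOf a = 2)
    (hout : ∀ g : Cfsg.Spor.HN, a ≠ MulAut.conj g) : GoodA a := by
  obtain ⟨α, hα, hx, hy, hz, ht⟩ := exists_outer'
  have haa : a * a = 1 := by rw [← pow_two, ← ha, pow_orderOf_eq_one]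
  obtain ⟨b, ρ, hρ, hb⟩ := norm_form hα hx hy hz ht haa hout
  apply GoodA.of_conj b
  rw [hb]
  simp only [reps, List.mem_cons, List.not_mem_nil, or_false] at hρ
  rcases hρ with rfl | rfl | rfl | rfl | rfl | rfl
  · exact good_rep known hx hy hz ht (w := [3, 7, 1, 2, 4, 7, 3]) (by decide) (by decide) (ord_of c0) (ord_of d0)
  · exact good_rep known hx hy hz ht (w := [2, 4, 3, 1, 2, 6]) (by decide) (by decide) (ord_of c1) (ord_of d1)
  · exact good_rep known hx hy hz ht (w := [4, 3, 1, 2, 2, 7]) (by decide) (by decide) (ord_of c2) (ord_of d2)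
  · exact good_rep known hx hy hz ht (w := [3, 3, 1, 6, 2, 4]) (by decide) (by decide) (ord_of c3) (ord_of d3)
  · exact good_rep known hx hy hz ht (w := [6, 4, 6, 1, 3, 4, 3]) (by decide) (by decide) (ord_of c4) (ord_of d4)
  · exact good_rep known hx hy hz ht (w := [0, 6, 4, 6, 3, 4, 3]) (by decide) (by decide) (ord_of c5) (ord_of d5)

end Cfsg.Agent.H546.SH

private theorem dce_e9f89e62de2f : _root_.True := by
  try have : _root_.True := by simp only [_root_.Cfsg.Agent.H546.SH.reps.eq_1]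
  exact _root_.True.intro
end
end
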